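import Mathlib
import Cfsg.Agent.Lib.FieldAutCard
import Cfsg.Agent.Prune
set_option linter.all false
prune_inst 0x7f00000000000000000000000000000000000000000000000000000000000000000000000000000000000000000000000000000000000000000000000000000000000000000000000000000000000000003fffffffffffffffffffffffffffbeffbdffffffff
open scoped Cfsg.Agent.FastGrp

/-!
# Semilinear maps commuting with a linear map of prime order (helper481)

`sigma_eq_one` : if a semilinear bijection with field automorphism `σ` commutes with a linear map `G` of prime order `r`,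
and the order of `p` modulo `r` is `d f` with `|F| = p ^ f` and `d` large, then `σ = 1`.
-/

set_option autoImplicit false
set_option linter.unusedSectionVars false
set_option linter.unusedVariables false

namespace Cfsg.Agent.H481.OddAut

open Polynomial Module

section Semi

variable {F V : Type*} [Field F] [AddCommGroup V] [Module F V]

theorem semi_aeval {σ : F ≃+* F} {M : V → V} (h0 : M 0 = 0) (hadd : ∀ u v, M (u + v) = M u + M v)
    (hsmul : ∀ (a : F) (v : V), M (a • v) = σ a • M v) {G : Module.End F V} (hG : ∀ v, M (G v) = G (M v))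
    (P : F[X]) (v : V) : M (aeval G P v) = aeval G (P.map (σ : F →+* F)) (M v) := by
  induction P using Polynomial.induction_on' with
  | add P R hP hR =>
    rw [map_add, LinearMap.add_apply, hadd, hP, hR, Polynomial.map_add, map_add, LinearMap.add_apply]
  | monomial i a =>
    have hpow : ∀ (i : ℕ) (v : V), M ((G ^ i) v) = (G ^ i) (M v) := by
      intro i
      induction i with
      | zero => intro v; rfl
      | succ i ih =>
        intro v
        rw [pow_succ, Module.End.mul_apply, ih, hG, Module.End.mul_apply]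
    rw [aeval_monomial, Polynomial.map_monomial, aeval_monomial, Module.End.mul_apply, Module.End.mul_apply,
      Module.algebraMap_end_apply, Module.algebraMap_end_apply, hsmul, hpow]
    rfl

theorem minpoly_map [FiniteDimensional F V] {σ : F ≃+* F} {M : V → V} (h0 : M 0 = 0)
    (hadd : ∀ u v, M (u + v) = M u + M v) (hsmul : ∀ (a : F) (v : V), M (a • v) = σ a • M v)
    (hs : Function.Surjective M) {G : Module.End F V} (hG : ∀ v, M (G v) = G (M v)) :
    (minpoly F G).map (σ : F →+* F) = minpoly F G := by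
  have hint : IsIntegral F G := Algebra.IsIntegral.isIntegral G
  have h1 : aeval G ((minpoly F G).map (σ : F →+* F)) = 0 := by
    apply LinearMap.ext
    intro w
    obtain ⟨v, rfl⟩ := hs w
    rw [← semi_aeval h0 hadd hsmul hG, minpoly.aeval, LinearMap.zero_apply, h0, LinearMap.zero_apply]
  have h2 : minpoly F G ∣ (minpoly F G).map (σ : F →+* F) := minpoly.dvd F G h1
  symm
  apply Polynomial.eq_of_dvd_of_natDegree_le_of_leadingCoeff h2
  · rw [Polynomial.natDegree_map]
  · rw [(minpoly.monic hint).leadingCoeff, ((minpoly.monic hint).map _).leadingCoeff]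

end Semi

section Field

variable {F : Type*} [Field F] [Fintype F] {p f : ℕ} [hp : Fact p.Prime]

theorem one_le_of_card (hF : Fintype.card F = p ^ f) : 1 ≤ f := by
  rcases Nat.eq_zero_or_pos f with h | h
  · exfalso
    rw [h, pow_zero] at hF
    have := Fintype.one_lt_card (α := F)
    omega
  · exact h

theorem charP_of_card (hF : Fintype.card F = p ^ f) : CharP F p := by
  obtain ⟨q, hq⟩ := CharP.exists F
  obtain ⟨n, hqp, hn⟩ := FiniteField.card F q
  have h1 : q ∣ p ^ f := by rw [← hF, hn]; exact dvd_pow_self q n.pos.ne'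
  have h2 : q = p := (Nat.prime_dvd_prime_iff_eq hqp hp.out).1 (hqp.dvd_of_dvd_pow h1)
  rwa [← h2]

/-- every automorphism is a power of the Frobenius automorphism -/
theorem exists_pow (hF : Fintype.card F = p ^ f) (σ : F ≃+* F) :
    ∃ k : ℕ, (∀ x, σ x = x ^ p ^ k) ∧ (f ∣ k → σ = RingEquiv.refl F) := by
  have hchar : CharP F p := charP_of_card hF
  have hf : 1 ≤ f := one_le_of_card hF
  let φ : RingAut F := frobeniusEquiv F p
  have h1 : ∀ x, φ x = x ^ p := fun x => by
    show frobeniusEquiv F p x = x ^ p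
    rw [frobeniusEquiv_apply, frobenius_def]
  have hpow : ∀ (k : ℕ) (x : F), (φ ^ k) x = x ^ p ^ k := by
    intro k
    induction k with
    | zero => intro x; rw [pow_zero, pow_zero, pow_one]; rfl
    | succ k ih =>
      intro x
      rw [pow_succ]
      show (φ ^ k) (φ x) = _
      rw [ih, h1, ← pow_mul, pow_succ, mul_comm]
  have hφf : φ ^ f = 1 := by
    ext x
    rw [hpow, ← hF, FiniteField.pow_card]; rfl
  have hord : orderOf φ = f := by
    have h2 : orderOf φ ∣ f := orderOf_dvd_of_pow_eq_one hφf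
    apply le_antisymm (Nat.le_of_dvd hf h2)
    have h3 : 0 < orderOf φ := Nat.pos_of_dvd_of_pos h2 hf
    have h4 := pow_orderOf_eq_one φ
    by_contra hlt
    push Not at hlt
    have h5 : ∀ x : F, x ^ p ^ orderOf φ = x := by
      intro x
      rw [← hpow, h4]; rfl
    have h6 : 1 < p ^ orderOf φ := Nat.one_lt_pow h3.ne' hp.out.one_lt
    have h7 : Fintype.card F ≤ p ^ orderOf φ := by
      classical
      have h8 : (Polynomial.X ^ p ^ orderOf φ - Polynomial.X : Polynomial F) ≠ 0 :=
        FiniteField.X_pow_card_sub_X_ne_zero F h6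
      have h9 : (Finset.univ : Finset F) ⊆
          (Polynomial.X ^ p ^ orderOf φ - Polynomial.X : Polynomial F).roots.toFinset := by
        intro x _
        rw [Multiset.mem_toFinset, Polynomial.mem_roots h8, Polynomial.IsRoot.def]
        simp [h5 x]
      calc Fintype.card F = (Finset.univ : Finset F).card := rfl
        _ ≤ _ := Finset.card_le_card h9
        _ ≤ _ := Multiset.toFinset_card_le _
        _ ≤ _ := Polynomial.card_roots' _
        _ = _ := FiniteField.X_pow_card_sub_X_natDegree_eq F h6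
    rw [hF] at h7
    exact absurd h7 (not_le.2 (Nat.pow_lt_pow_right hp.out.one_lt hlt))
  have hcard : Nat.card (RingAut F) = f := Cfsg.Agent.Lib.FieldAutCard.card_ringAut hf hF
  have hfin : Finite (RingAut F) := Nat.finite_of_card_ne_zero (by omega)
  have htop : Subgroup.zpowers φ = ⊤ := by
    apply Subgroup.eq_top_of_card_eq
    rw [Nat.card_zpowers, hord, hcard]
  have hmem : (σ : RingAut F) ∈ Subgroup.zpowers φ := by rw [htop]; exact Subgroup.mem_top _
  obtain ⟨k, hk⟩ := (isOfFinOrder_of_finite φ).mem_powers_iff_mem_zpowers.2 hmem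
  refine ⟨k, fun x => ?_, ?_⟩
  · rw [← hpow]
    exact (congrArg (fun τ : RingAut F => τ x) hk).symm
  · rintro ⟨c, hc⟩
    have h2 : φ ^ k = 1 := by rw [hc, pow_mul, hφf, one_pow]
    exact hk.symm.trans h2

end Field

section Main

variable {F V : Type*} [Field F] [Fintype F] [AddCommGroup V] [Module F V] [FiniteDimensional F V]
  {p f : ℕ} [hp : Fact p.Prime]

/-- closure of the set of roots under powers of the Frobenius automorphism -/
theorem root_pow (hF : Fintype.card F = p ^ f) {P : F[X]} {σ : F ≃+* F} (hσ : P.map (σ : F →+* F) = P) {k : ℕ}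
    (hk : ∀ x, σ x = x ^ p ^ k) {K : Type*} [Field K] [Algebra F K] {μ : K} (hμ : aeval μ P = 0) :
    aeval (μ ^ p ^ k) P = 0 := by
  have hchar : CharP F p := charP_of_card hF
  have hcharK : CharP K p := charP_of_injective_algebraMap (algebraMap F K).injective p
  have h1 : (iterateFrobenius K p k).comp (algebraMap F K) = (algebraMap F K).comp (σ : F →+* F) := by
    ext x
    rw [RingHom.comp_apply, RingHom.comp_apply, iterateFrobenius_def]
    show _ = algebraMap F K (σ x)
    rw [hk, map_pow]
  have h2 := congrArg (iterateFrobenius K p k) hμ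
  rw [map_zero, aeval_def, Polynomial.hom_eval₂, h1, iterateFrobenius_def, ← Polynomial.eval₂_map, hσ] at h2
  exact h2

/-- existence of a nontrivial root -/
theorem exists_root {G : Module.End F V} {r : ℕ} (hr : r.Prime) (hrF : (r : F) ≠ 0) (hG : G ^ r = 1) (hG1 : G ≠ 1)
    {K : Type*} [Field K] [Algebra F K] [IsAlgClosed K] : ∃ μ : K, aeval μ (minpoly F G) = 0 ∧ orderOf μ = r := by
  by_contra hcon
  push Not at hcon
  obtain ⟨Φ, hΦ⟩ : ∃ Φ : F[X], Φ = ∑ i ∈ Finset.range r, X ^ i := ⟨_, rfl⟩
  have hmul : Φ * (X - 1) = X ^ r - 1 := by rw [hΦ]; exact geom_sum_mul _ _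
  have hcop : IsCoprime (minpoly F G) Φ := by
    rw [Polynomial.isCoprime_iff_aeval_ne_zero_of_isAlgClosed F K]
    intro μ
    by_contra hcon2
    push Not at hcon2
    obtain ⟨h1, h2⟩ := hcon2
    apply hcon μ h1
    have h3 : μ ^ r = 1 := by
      have h4 := congrArg (aeval μ) hmul
      rw [map_mul, h2, zero_mul, map_sub, map_pow, aeval_X, map_one] at h4
      exact (sub_eq_zero.1 h4.symm)
    apply orderOf_eq_prime h3 (hp := ⟨hr⟩)
    rintro rfl
    rw [hΦ, map_sum] at h2
    simp only [map_pow, aeval_X, one_pow, Finset.sum_const, Finset.card_range, nsmul_eq_mul, mul_one] at h2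
    apply hrF
    apply (algebraMap F K).injective
    rw [map_natCast, map_zero, h2]
  have h1 : minpoly F G ∣ Φ * (X - 1) := by
    rw [hmul]
    apply minpoly.dvd
    rw [map_sub, map_pow, aeval_X, map_one, hG, sub_self]
  have h2 : minpoly F G ∣ (X - 1 : F[X]) := hcop.dvd_of_dvd_mul_left h1
  obtain ⟨R, hR⟩ := h2
  have h3 := congrArg (aeval G) hR
  rw [map_mul, minpoly.aeval, zero_mul, map_sub, aeval_X, map_one, sub_eq_zero] at h3
  exact hG1 h3

/-- the exponents -/
theorem modEq_of_pow_eq {r d : ℕ} (hr : r.Prime) (h : orderOf (p : ZMod r) = d * f) (hdf : d * f ≠ 0) {K : Type*} [Field K]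
    {μ : K} (hμ : orderOf μ = r) {a b : ℕ} (hab : μ ^ p ^ a = μ ^ p ^ b) : a ≡ b [MOD d * f] := by
  have hrf : Fact r.Prime := ⟨hr⟩
  have hμ0 : μ ≠ 0 := by
    rintro rfl
    have h1 := pow_orderOf_eq_one (0 : K)
    rw [hμ, zero_pow hr.ne_zero] at h1
    exact zero_ne_one h1
  have h1 : p ^ a ≡ p ^ b [MOD r] := by
    have h2 : (Units.mk0 μ hμ0) ^ p ^ a = (Units.mk0 μ hμ0) ^ p ^ b := by
      apply Units.ext
      rw [Units.val_pow_eq_pow_val, Units.val_pow_eq_pow_val, Units.val_mk0, hab]
    have h3 := pow_eq_pow_iff_modEq.1 h2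
    rwa [← orderOf_units, Units.val_mk0, hμ] at h3
  have hp0 : (p : ZMod r) ≠ 0 := by
    intro h0
    rw [h0] at h
    have h2 := pow_orderOf_eq_one (0 : ZMod r)
    rw [h, zero_pow hdf] at h2
    exact zero_ne_one h2
  have h2 : (p : ZMod r) ^ a = (p : ZMod r) ^ b := by
    have := (ZMod.natCast_eq_natCast_iff _ _ _).2 h1
    rwa [Nat.cast_pow, Nat.cast_pow] at this
  have h3 : (Units.mk0 (p : ZMod r) hp0) ^ a = (Units.mk0 (p : ZMod r) hp0) ^ b := by
    apply Units.ext
    rw [Units.val_pow_eq_pow_val, Units.val_pow_eq_pow_val, Units.val_mk0, h2]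
  have h4 := pow_eq_pow_iff_modEq.1 h3
  rwa [← orderOf_units, Units.val_mk0, h] at h4

/-- **The field automorphism is trivial.** -/
theorem sigma_eq_one (hF : Fintype.card F = p ^ f) {n d r : ℕ} (hV : finrank F V ≤ 2 * n + 1) (hr : r.Prime)
    {G : Module.End F V} (hG : G ^ r = 1) (hG1 : G ≠ 1) {v : V} (hv : v ≠ 0) (hGv : G v = v)
    (h : orderOf (p : ZMod r) = d * f) (hd : n < d ∨ (2 * n < 3 * d ∧ Odd f)) {σ : F ≃+* F}
    (hσ : (minpoly F G).map (σ : F →+* F) = minpoly F G) : σ = RingEquiv.refl F := by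
  classical
  have hf : 1 ≤ f := one_le_of_card hF
  have hchar : CharP F p := charP_of_card hF
  have hd0 : 0 < d := by omega
  have hdf : d * f ≠ 0 := (Nat.mul_pos hd0 hf).ne'
  have hrf : Fact r.Prime := ⟨hr⟩
  have hrF : (r : F) ≠ 0 := by
    rw [Ne, CharP.cast_eq_zero_iff F p]
    intro h1
    have h2 : p = r := (Nat.prime_dvd_prime_iff_eq hp.out hr).1 h1
    rw [h2, CharP.cast_eq_zero] at h
    have h3 := pow_orderOf_eq_one (0 : ZMod r)
    rw [h, zero_pow hdf] at h3
    exact zero_ne_one h3
  obtain ⟨k, hk, hk1⟩ := exists_pow hF σ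
  apply hk1
  by_contra hfk
  obtain ⟨μ, hμ, hμr⟩ := exists_root (K := AlgebraicClosure F) hr hrF hG hG1
  -- the set of roots
  obtain ⟨R, hR⟩ : ∃ R : Finset (AlgebraicClosure F),
      R = ((minpoly F G).map (algebraMap F (AlgebraicClosure F))).roots.toFinset := ⟨_, rfl⟩
  have hint : IsIntegral F G := Algebra.IsIntegral.isIntegral G
  have hmap0 : (minpoly F G).map (algebraMap F (AlgebraicClosure F)) ≠ 0 :=
    ((minpoly.monic hint).map _).ne_zero
  have hmem : ∀ x : AlgebraicClosure F, x ∈ R ↔ aeval x (minpoly F G) = 0 := by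
    intro x
    rw [hR, Multiset.mem_toFinset, Polynomial.mem_roots hmap0, Polynomial.IsRoot.def, Polynomial.eval_map]
    rfl
  have hcardR : R.card ≤ 2 * n + 1 := by
    refine le_trans ?_ hV
    calc R.card ≤ _ := by rw [hR]; exact Multiset.toFinset_card_le _
      _ ≤ _ := Polynomial.card_roots' _
      _ = (minpoly F G).natDegree := Polynomial.natDegree_map _
      _ ≤ (LinearMap.charpoly G).natDegree := Polynomial.natDegree_le_of_dvd (LinearMap.minpoly_dvd_charpoly G)
          (LinearMap.charpoly_monic G).ne_zero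
      _ = finrank F V := LinearMap.charpoly_natDegree G
  have h1R : (1 : AlgebraicClosure F) ∈ R := by
    rw [hmem]
    have h1 : Module.End.HasEigenvalue G 1 := by
      apply Module.End.hasEigenvalue_of_hasEigenvector (x := v)
      exact ⟨Module.End.mem_eigenspace_iff.2 (by rw [hGv, one_smul]), hv⟩
    have h2 : (minpoly F G).IsRoot 1 := Module.End.isRoot_of_hasEigenvalue h1
    have h3 : aeval (algebraMap F (AlgebraicClosure F) 1) (minpoly F G) =
      algebraMap F (AlgebraicClosure F) ((minpoly F G).eval 1) := Polynomial.aeval_algebraMap_apply_eq_algebraMap_eval _ _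
    rw [map_one] at h3
    rw [h3, h2.eq_zero, map_zero]
  -- closure
  have hq : ∀ x : AlgebraicClosure F, aeval x (minpoly F G) = 0 → aeval (x ^ p ^ f) (minpoly F G) = 0 := by
    intro x hx
    refine root_pow hF (σ := RingEquiv.refl F) ?_ ?_ hx
    · exact Polynomial.map_id
    · intro y
      rw [← hF, FiniteField.pow_card]; rfl
  have hs : ∀ x : AlgebraicClosure F, aeval x (minpoly F G) = 0 → aeval (x ^ p ^ k) (minpoly F G) = 0 :=
    fun x hx => root_pow hF hσ hk hx
  have hall : ∀ i j : ℕ, aeval (μ ^ p ^ (k * i + f * j)) (minpoly F G) = 0 := by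
    intro i j
    induction j with
    | zero =>
      induction i with
      | zero => rw [mul_zero, mul_zero, add_zero, pow_zero, pow_one]; exact hμ
      | succ i ih =>
        have e1 : μ ^ p ^ (k * (i + 1) + f * 0) = (μ ^ p ^ (k * i + f * 0)) ^ p ^ k := by
          rw [show k * (i + 1) + f * 0 = (k * i + f * 0) + k by ring, pow_add p, pow_mul μ]
        rw [e1]
        exact hs _ ih
    | succ j ih =>
      have e1 : μ ^ p ^ (k * i + f * (j + 1)) = (μ ^ p ^ (k * i + f * j)) ^ p ^ f := by
        rw [show k * i + f * (j + 1) = (k * i + f * j) + f by ring, pow_add p, pow_mul μ]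
      rw [e1]
      exact hq _ ih
  -- the number of the elements
  obtain ⟨t, ht⟩ : ∃ t, t = f / Nat.gcd f k := ⟨_, rfl⟩
  have hg0 : 0 < Nat.gcd f k := Nat.gcd_pos_of_pos_left _ hf
  have htg : t * Nat.gcd f k = f := by rw [ht]; exact Nat.div_mul_cancel (Nat.gcd_dvd_left _ _)
  have ht2 : 2 ≤ t := by
    by_contra h1
    have h2 : t = 1 := by
      rcases Nat.eq_zero_or_pos t with h3 | h3
      · rw [h3, zero_mul] at htg; omega
      · omega
    rw [h2, one_mul] at htg
    exact hfk (htg ▸ Nat.gcd_dvd_right f k)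
  have hinj : ∀ a ∈ (Finset.range t ×ˢ Finset.range d : Finset (ℕ × ℕ)), ∀ b ∈ (Finset.range t ×ˢ Finset.range d : Finset (ℕ × ℕ)),
      μ ^ p ^ (k * a.1 + f * a.2) = μ ^ p ^ (k * b.1 + f * b.2) → a = b := by
    rintro ⟨i, j⟩ ha ⟨i', j'⟩ hb hab
    rw [Finset.mem_product, Finset.mem_range, Finset.mem_range] at ha hb
    have h1 := modEq_of_pow_eq hr h hdf hμr hab
    have h2 : k * i ≡ k * i' [MOD f] := by
      have h3 := h1.of_mul_left d
      have h4 : k * i + f * j ≡ k * i [MOD f] := by
        show (k * i + f * j) % f = (k * i) % f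
        rw [Nat.add_mul_mod_self_left]
      have h5 : k * i' + f * j' ≡ k * i' [MOD f] := by
        show (k * i' + f * j') % f = (k * i') % f
        rw [Nat.add_mul_mod_self_left]
      exact h4.symm.trans (h3.trans h5)
    have h3 : i ≡ i' [MOD t] := by
      have := Nat.ModEq.cancel_left_div_gcd hf h2
      rwa [← ht] at this
    have h4 : i = i' := by
      have h5 : i % t = i' % t := h3
      rwa [Nat.mod_eq_of_lt ha.1, Nat.mod_eq_of_lt hb.1] at h5
    subst h4
    have h5 : f * j ≡ f * j' [MOD f * d] := by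
      rw [mul_comm f d]
      exact Nat.ModEq.add_left_cancel' _ h1
    have h6 : j ≡ j' [MOD d] := Nat.ModEq.mul_left_cancel' (by omega) h5
    have h7 : j = j' := by
      have h8 : j % d = j' % d := h6
      rwa [Nat.mod_eq_of_lt ha.2, Nat.mod_eq_of_lt hb.2] at h8
    rw [h7]
  have hsub : insert 1 ((Finset.range t ×ˢ Finset.range d : Finset (ℕ × ℕ)).image
      (fun a => μ ^ p ^ (k * a.1 + f * a.2))) ⊆ R := by
    intro x hx
    rw [Finset.mem_insert] at hx
    rcases hx with rfl | hx
    · exact h1R
    · rw [Finset.mem_image] at hx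
      obtain ⟨a, -, rfl⟩ := hx
      rw [hmem]
      exact hall _ _
  have h1n : (1 : AlgebraicClosure F) ∉ (Finset.range t ×ˢ Finset.range d : Finset (ℕ × ℕ)).image
      (fun a => μ ^ p ^ (k * a.1 + f * a.2)) := by
    rw [Finset.mem_image]
    rintro ⟨a, -, ha⟩
    have h1 : r ∣ p ^ (k * a.1 + f * a.2) := by
      rw [← hμr]
      exact orderOf_dvd_of_pow_eq_one ha
    have h2 : r = p := (Nat.prime_dvd_prime_iff_eq hr hp.out).1 (hr.dvd_of_dvd_pow h1)
    apply hrF
    rw [h2]
    exact CharP.cast_eq_zero F p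
  have hcard := Finset.card_le_card hsub
  rw [Finset.card_insert_of_notMem h1n, Finset.card_image_of_injOn (fun a ha b hb hab => hinj a ha b hb hab),
    Finset.card_product, Finset.card_range, Finset.card_range] at hcard
  have hle : t * d ≤ 2 * n := by omega
  rcases hd with hd | ⟨hd, hodd⟩
  · have : 2 * d ≤ t * d := Nat.mul_le_mul_right d ht2
    omega
  · have htodd : Odd t := by
      rw [← htg] at hodd
      exact (Nat.odd_mul.1 hodd).1
    have ht3 : 3 ≤ t := by
      rcases htodd with ⟨c, hc⟩
      omega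
    have : 3 * d ≤ t * d := Nat.mul_le_mul_right d ht3
    omega

end Main

end Cfsg.Agent.H481.OddAut
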